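import Mathlib
import Cfsg.Agent.Lib.Helper33.Breadth.Defs

set_option autoImplicit false

/-!
Project BREADTH (S3777), package [LIN] (helper46): the linear algebra lemma `PkgLin` from `PkgE3`.
-/

namespace Cfsg.Agent.Lib.Helper46.Breadth

open Cfsg.Agent.Lib.Helper33.Breadth

universe u

section
variable {G : Type u} [Group G] {p : ℕ} [Fact p.Prime]

theorem add_one_eq_zero (χ : G → ZMod p) (h : ∀ x z, χ (x * z) = χ x + χ z) : χ 1 = 0 := by
  have h1 := h 1 1
  rw [mul_one] at h1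
  exact left_eq_add.mp h1

theorem add_pow_eq (χ : G → ZMod p) (h : ∀ x z, χ (x * z) = χ x + χ z) (x : G) (n : ℕ) :
    χ (x ^ n) = (n : ZMod p) * χ x := by
  induction n with
  | zero => simp [add_one_eq_zero χ h]
  | succ k ih => rw [pow_succ, h, ih]; push_cast; ring

/-- FACT A. -/
theorem factA (β : G → G → ZMod p)
    (h1 : ∀ x x' z, β (x * x') z = β x z + β x' z)
    (h2 : ∀ x z z', β x (z * z') = β x z + β x z')
    (h3 : ∀ x, β x x = 0)
    (χ : G → ZMod p) (hχ : ∀ x z, χ (x * z) = χ x + χ z) (y : G) (hy : χ y = 1)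
    (hv : ∀ x z, χ x = 0 → χ z = 0 → β x z = 0) (x z : G) :
    β x z = β x y * χ z - β z y * χ x := by
  have anti : ∀ a b, β a b = - β b a := by
    intro a b
    have h := h3 (a * b)
    rw [h1, h2, h2, h3, h3] at h
    linear_combination h
  have hn' : (((-χ x).val : ℕ) : ZMod p) = -χ x := ZMod.natCast_zmod_val _
  have hm' : (((-χ z).val : ℕ) : ZMod p) = -χ z := ZMod.natCast_zmod_val _
  have e1 : χ (x * y ^ (-χ x).val) = 0 := by
    rw [hχ, add_pow_eq χ hχ, hy, hn']; ring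
  have e2 : χ (z * y ^ (-χ z).val) = 0 := by
    rw [hχ, add_pow_eq χ hχ, hy, hm']; ring
  have key := hv _ _ e1 e2
  rw [h1, h2, h2] at key
  have p1 : β x (y ^ (-χ z).val) = (((-χ z).val : ℕ) : ZMod p) * β x y :=
    add_pow_eq (β x) (h2 x) y _
  have p2 : β (y ^ (-χ x).val) z = (((-χ x).val : ℕ) : ZMod p) * β y z :=
    add_pow_eq (fun t => β t z) (fun a b => h1 a b z) y _
  have p3 : β (y ^ (-χ x).val) (y ^ (-χ z).val) = 0 := by
    rw [add_pow_eq (β (y ^ (-χ x).val)) (h2 _) y _,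
      add_pow_eq (fun t => β t y) (fun a b => h1 a b y) y _, h3]
    ring
  rw [p1, p2, p3, hm', hn', anti y z] at key
  linear_combination key

/-- The space of additive characters vanishing at `y`. -/
def U1 (p : ℕ) [Fact p.Prime] (y : G) : Submodule (ZMod p) (G → ZMod p) where
  carrier := {γ | (∀ x z, γ (x * z) = γ x + γ z) ∧ γ y = 0}
  add_mem' := by
    rintro a b ⟨ha1, ha2⟩ ⟨hb1, hb2⟩
    refine ⟨fun x z => ?_, ?_⟩
    · simp only [Pi.add_apply, ha1, hb1]; ring
    · simp only [Pi.add_apply, ha2, hb2, add_zero]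
  zero_mem' := ⟨fun x z => by simp, rfl⟩
  smul_mem' := by
    rintro c a ⟨ha1, ha2⟩
    refine ⟨fun x z => ?_, ?_⟩
    · simp only [Pi.smul_apply, ha1, smul_eq_mul]; ring
    · simp only [Pi.smul_apply, ha2, smul_zero]

theorem mem_U1 (y : G) (γ : G → ZMod p) :
    γ ∈ U1 p y ↔ (∀ x z, γ (x * z) = γ x + γ z) ∧ γ y = 0 := Iff.rfl

/-- The wedge of two characters. -/
def wedge (γ δ : G → ZMod p) : G → G → ZMod p := fun x z => γ x * δ z - γ z * δ x

theorem wedge_apply (γ δ : G → ZMod p) (x z : G) : wedge γ δ x z = γ x * δ z - γ z * δ x := rfl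

theorem wedge_add_left (γ γ' δ : G → ZMod p) : wedge (γ + γ') δ = wedge γ δ + wedge γ' δ := by
  funext x z; simp only [wedge_apply, Pi.add_apply]; ring

theorem wedge_add_right (γ δ δ' : G → ZMod p) : wedge γ (δ + δ') = wedge γ δ + wedge γ δ' := by
  funext x z; simp only [wedge_apply, Pi.add_apply]; ring

theorem wedge_smul_left (c : ZMod p) (γ δ : G → ZMod p) : wedge (c • γ) δ = c • wedge γ δ := by
  funext x z; simp only [wedge_apply, Pi.smul_apply, smul_eq_mul]; ring

theorem wedge_smul_right (c : ZMod p) (γ δ : G → ZMod p) : wedge γ (c • δ) = c • wedge γ δ := by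
  funext x z; simp only [wedge_apply, Pi.smul_apply, smul_eq_mul]; ring

theorem wedge_self (γ : G → ZMod p) : wedge γ γ = 0 := by
  funext x z; simp only [wedge_apply, Pi.zero_apply]; ring

/-- `ψ`: evaluation of the second variable at `y`. -/
def psiL (p : ℕ) [Fact p.Prime] (y : G) : (G → G → ZMod p) →ₗ[ZMod p] (G → ZMod p) where
  toFun f := fun x => f x y
  map_add' := by intros; rfl
  map_smul' := by intros; rfl

theorem psiL_apply (y : G) (f : G → G → ZMod p) (x : G) : psiL p y f x = f x y := rfl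

/-- `ρ β = β - wedge ψ_β χ₀`. -/
def rhoL (L : Submodule (ZMod p) (G → G → ZMod p)) (χ₀ : G → ZMod p) (y : G) :
    L →ₗ[ZMod p] (G → G → ZMod p) where
  toFun β := (β : G → G → ZMod p) - wedge (psiL p y (β : G → G → ZMod p)) χ₀
  map_add' := by
    intro a b
    rw [Submodule.coe_add, map_add, wedge_add_left]; abel
  map_smul' := by
    intro c a
    rw [Submodule.coe_smul, map_smul, wedge_smul_left, RingHom.id_apply, smul_sub]

theorem rhoL_apply (L : Submodule (ZMod p) (G → G → ZMod p)) (χ₀ : G → ZMod p) (y : G) (β : L) :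
    rhoL L χ₀ y β = (β : G → G → ZMod p) - wedge (psiL p y (β : G → G → ZMod p)) χ₀ := rfl

end

theorem pkgLin_of (hE3 : PkgE3.{u}) : PkgLin.{u} := by
  intro G _ _ p _ L hL1 hL2 hL3 hLne χ₀ hχ₀ hχ₀ne hker
  classical
  obtain ⟨x0, hx0⟩ := hχ₀ne
  obtain ⟨y, hy⟩ : ∃ y, χ₀ y = 1 := by
    refine ⟨x0 ^ ((χ₀ x0)⁻¹).val, ?_⟩
    rw [add_pow_eq χ₀ hχ₀, ZMod.natCast_zmod_val]
    exact inv_mul_cancel₀ hx0
  have hψmem : ∀ β ∈ L, psiL p y β ∈ U1 p y :=
    fun β hβ => ⟨fun x z => hL1 β hβ x z y, hL3 β hβ y⟩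
  -- ρ injective
  have hρ : LinearMap.ker (rhoL L χ₀ y) = ⊥ := by
    rw [LinearMap.ker_eq_bot']
    intro β hβ
    have hβ0 : (β : G → G → ZMod p) = 0 := by
      apply hker _ β.2
      intro x z hx hz
      have h := congrFun (congrFun hβ x) z
      simp only [rhoL_apply, wedge_apply, Pi.sub_apply, Pi.zero_apply, hx, hz, mul_zero,
        sub_zero] at h
      exact h
    exact Subtype.ext hβ0
  obtain ⟨g, hg⟩ := LinearMap.exists_leftInverse_of_injective (rhoL L χ₀ y) hρ
  have hg' : ∀ β : L, g (rhoL L χ₀ y β) = β := fun β => LinearMap.congr_fun hg β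
  -- ψ̃
  let ψt : (G → G → ZMod p) →ₗ[ZMod p] U1 p y :=
    LinearMap.codRestrict (U1 p y) ((psiL p y).comp (L.subtype.comp g))
      (fun f => hψmem _ (g f).2)
  have hψt : ∀ β : L, ((ψt (rhoL L χ₀ y β) : U1 p y) : G → ZMod p)
      = psiL p y (β : G → G → ZMod p) := by
    intro β
    show psiL p y ((g (rhoL L χ₀ y β) : L) : G → G → ZMod p) = _
    rw [hg']
  -- θ
  let θ : U1 p y →ₗ[ZMod p] U1 p y →ₗ[ZMod p] U1 p y :=
    LinearMap.mk₂ (ZMod p)
      (fun c a => - ψt (wedge (c : G → ZMod p) (a : G → ZMod p)))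
      (fun c c' a => by
        show - ψt (wedge (((c + c' : U1 p y)) : G → ZMod p) (a : G → ZMod p)) = _
        rw [Submodule.coe_add, wedge_add_left, map_add, neg_add])
      (fun r c a => by
        show - ψt (wedge (((r • c : U1 p y)) : G → ZMod p) (a : G → ZMod p)) = _
        rw [Submodule.coe_smul, wedge_smul_left, map_smul, smul_neg])
      (fun c a a' => by
        show - ψt (wedge (c : G → ZMod p) (((a + a' : U1 p y)) : G → ZMod p)) = _
        rw [Submodule.coe_add, wedge_add_right, map_add, neg_add])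
      (fun r c a => by
        show - ψt (wedge (c : G → ZMod p) (((r • a : U1 p y)) : G → ZMod p)) = _
        rw [Submodule.coe_smul, wedge_smul_right, map_smul, smul_neg])
  have hθ : ∀ c a : U1 p y, θ c a = - ψt (wedge (c : G → ZMod p) (a : G → ZMod p)) :=
    fun c a => rfl
  -- nontriviality
  have : Nontrivial (U1 p y) := by
    by_contra hnt
    rw [not_nontrivial_iff_subsingleton] at hnt
    obtain ⟨β, hβ, hβne⟩ := hLne
    apply hβne
    have h0 : ∀ γ ∈ U1 p y, γ = 0 := fun γ hγ => by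
      have h := Subsingleton.elim (⟨γ, hγ⟩ : U1 p y) 0
      exact congrArg Subtype.val h
    have hψ0 := h0 _ (hψmem β hβ)
    funext x z
    have hmem : (fun z => β x z - β x y * χ₀ z) ∈ U1 p y := by
      refine ⟨fun a b => ?_, ?_⟩
      · show β x (a * b) - β x y * χ₀ (a * b) = (β x a - β x y * χ₀ a) + (β x b - β x y * χ₀ b)
        rw [hL2 β hβ, hχ₀]; ring
      · show β x y - β x y * χ₀ y = 0
        rw [hy]; ring
    have h1 : β x z - β x y * χ₀ z = 0 := congrFun (h0 _ hmem) z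
    have h2 : β x y = 0 := congrFun hψ0 x
    rw [h2] at h1
    simpa using h1
  obtain ⟨a, ha0, ha⟩ := hE3 p θ (fun c => by
    rw [hθ, wedge_self, map_zero, neg_zero])
  have haadd : ∀ x z, (a : G → ZMod p) (x * z) = (a : G → ZMod p) x + (a : G → ZMod p) z :=
    a.2.1
  have hay : (a : G → ZMod p) y = 0 := a.2.2
  have hχadd : ∀ x z, (χ₀ + (a : G → ZMod p)) (x * z)
      = (χ₀ + (a : G → ZMod p)) x + (χ₀ + (a : G → ZMod p)) z := by
    intro x z
    simp only [Pi.add_apply, hχ₀, haadd]; ring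
  have hχy : (χ₀ + (a : G → ZMod p)) y = 1 := by
    simp only [Pi.add_apply, hy, hay, add_zero]
  refine ⟨χ₀ + (a : G → ZMod p), hχadd, ⟨y, ?_⟩, ?_, ?_⟩
  · rw [hχy]; exact one_ne_zero
  · -- some x with χ₀ x = 0 and a x ≠ 0
    have hne : (a : G → ZMod p) ≠ 0 := fun h => ha0 (Subtype.ext h)
    obtain ⟨x, hx⟩ : ∃ x, (a : G → ZMod p) x ≠ 0 := by
      by_contra hcon
      push Not at hcon
      exact hne (funext hcon)
    have hn' : (((-χ₀ x).val : ℕ) : ZMod p) = -χ₀ x := ZMod.natCast_zmod_val _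
    refine ⟨x * y ^ (-χ₀ x).val, ?_, ?_⟩
    · rw [hχ₀, add_pow_eq χ₀ hχ₀, hy, hn']; ring
    · have e1 : χ₀ (x * y ^ (-χ₀ x).val) = 0 := by
        rw [hχ₀, add_pow_eq χ₀ hχ₀, hy, hn']; ring
      have e2 : (a : G → ZMod p) (x * y ^ (-χ₀ x).val) = (a : G → ZMod p) x := by
        rw [haadd, add_pow_eq _ haadd, hay]; ring
      simp only [Pi.add_apply, e1, e2, zero_add]
      exact hx
  · intro β hβ hv
    have hA := factA β (hL1 β hβ) (hL2 β hβ) (hL3 β hβ) (χ₀ + (a : G → ZMod p)) hχadd y hχy hv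
    -- ρ β = wedge ψ_β a
    have hρβ : rhoL L χ₀ y ⟨β, hβ⟩ = wedge (psiL p y β) (a : G → ZMod p) := by
      funext x z
      simp only [rhoL_apply, wedge_apply, Pi.sub_apply, psiL_apply]
      rw [hA x z]
      simp only [Pi.add_apply]; ring
    -- c := ψ_β
    have hc : (⟨psiL p y β, hψmem β hβ⟩ : U1 p y) = 0 := by
      apply ha
      rw [hθ]
      have h1 := hψt ⟨β, hβ⟩
      rw [hρβ] at h1
      have h2 : ψt (wedge (psiL p y β) (a : G → ZMod p)) = ⟨psiL p y β, hψmem β hβ⟩ :=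
        Subtype.ext h1
      rw [h2]
      exact add_neg_cancel _
    have hψ0 : psiL p y β = 0 := congrArg Subtype.val hc
    funext x z
    rw [hA x z]
    have h1 : β x y = 0 := congrFun hψ0 x
    have h2 : β z y = 0 := congrFun hψ0 z
    rw [h1, h2]; simp

end Cfsg.Agent.Lib.Helper46.Breadth
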